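import Cfsg.Agent.Lib.G2Inv.Classes
import Cfsg.Agent.Lib.LinGroup.Order

/-!
The centralizer of the standard involution: pairs of invertible matrices of size two with equal
determinants, modulo scalars.
-/

set_option autoImplicit false

namespace Cfsg.Agent.Lib.G2Inv

open Cfsg.Lie Matrix Cfsg.Agent.Lib.ZornG2

universe u

variable {F : Type u} [Field F]

/-- The pairs of special matrices. -/
def slHom (F : Type u) [Field F] :
    SpecialLinearGroup (Fin 2) F × SpecialLinearGroup (Fin 2) F →* ↥(Cfsg.Lie.G2 F) :=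
  (pairHom F).comp (slPair F)

/-- The first factor. -/
def sl2Fst (F : Type u) [Field F] : SpecialLinearGroup (Fin 2) F →* ↥(Cfsg.Lie.G2 F) :=
  (slHom F).comp (MonoidHom.inl _ _)

/-- The second factor. -/
def sl2Snd (F : Type u) [Field F] : SpecialLinearGroup (Fin 2) F →* ↥(Cfsg.Lie.G2 F) :=
  (slHom F).comp (MonoidHom.inr _ _)

theorem ext_of_act {g h : ↥(Cfsg.Lie.G2 F)} (e : ∀ x, act g x = act h x) : g = h :=
  Subtype.ext (Units.ext (Matrix.ext_of_mulVec_single fun j => e (Pi.single j 1)))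

theorem act_tStd (x : Fin 8 → F) :
    act (tStd F) x = ![x 0, x 1, -x 2, -x 3, x 4, -x 5, -x 6, x 7] := by
  have e : (dSign F).1.adjugateᵀ = Matrix.diagonal (sgn3 F) := by
    rw [Matrix.adjugate_fin_three]
    ext i j
    fin_cases i <;> fin_cases j <;> simp [dSign, sgn3]
  rw [tStd, act_sl3Hom]
  show mkZ (x 0) ((dSign F).1 *ᵥ zA F x) ((dSign F).1.adjugateᵀ *ᵥ zB F x) (x 7) = _
  rw [e]
  funext i
  fin_cases i <;> simp [mkZ, dSign, sgn3, zA, zB, Matrix.mulVec_diagonal]

theorem quat_act_tStd (x : Fin 8 → F) : quat (act (tStd F) x) = quat x := by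
  rw [act_tStd]
  ext i j
  fin_cases i <;> fin_cases j <;> simp [quat]

theorem perp_act_tStd (x : Fin 8 → F) : perp (act (tStd F) x) = -perp x := by
  rw [act_tStd]
  ext i j
  fin_cases i <;> fin_cases j <;> simp [perp]

theorem act_pairHom (p : ↥(pairK F)) (x : Fin 8 → F) : act (pairHom F p) x = pairLin p.1 x :=
  pairHom_mulVec p x

theorem pairHom_commute_tStd (p : ↥(pairK F)) :
    Commute (pairHom F p) (tStd F) := by
  refine ext_of_act fun x => ?_
  rw [act_mul, act_mul, act_pairHom, act_pairHom]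
  refine pair_ext ?_ ?_
  · rw [quat_pairLin, quat_act_tStd, quat_act_tStd, quat_pairLin]
  · rw [perp_pairLin, perp_act_tStd, perp_act_tStd, perp_pairLin, Matrix.mul_neg, Matrix.neg_mul]

theorem slHom_one_neg : slHom F (1, -1) = tStd F := by
  refine ext_of_act fun x => ?_
  rw [slHom, MonoidHom.comp_apply, act_pairHom]
  refine pair_ext ?_ ?_
  · rw [quat_pairLin, quat_act_tStd]
    show (1 : Matrix (Fin 2) (Fin 2) F) * quat x * _ = _
    simp [slPair]
  · rw [perp_pairLin, perp_act_tStd]
    show (((-1 : SpecialLinearGroup (Fin 2) F)) : Matrix (Fin 2) (Fin 2) F) * perp x * _ = _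
    simp [slPair]

theorem quat_zero : quat (0 : Fin 8 → F) = 0 := by
  ext i j; fin_cases i <;> fin_cases j <;> simp [quat]

theorem perp_zero : perp (0 : Fin 8 → F) = 0 := by
  ext i j; fin_cases i <;> fin_cases j <;> simp [perp]

theorem quat_neg (x : Fin 8 → F) : quat (-x) = -quat x := by
  ext i j; fin_cases i <;> fin_cases j <;> simp [quat]

theorem perp_neg (x : Fin 8 → F) : perp (-x) = -perp x := by
  ext i j; fin_cases i <;> fin_cases j <;> simp [perp]

theorem quat_add (x y : Fin 8 → F) : quat (x + y) = quat x + quat y := by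
  ext i j; fin_cases i <;> fin_cases j <;> simp [quat]

theorem perp_add (x y : Fin 8 → F) : perp (x + y) = perp x + perp y := by
  ext i j; fin_cases i <;> fin_cases j <;> simp [perp]; ring

theorem quat_smul (c : F) (x : Fin 8 → F) : quat (c • x) = c • quat x := by
  ext i j; fin_cases i <;> fin_cases j <;> simp [quat]

theorem ofPair_add (X Y U V : Matrix (Fin 2) (Fin 2) F) :
    ofPair (X + Y) (U + V) = ofPair X U + ofPair Y V :=
  pair_ext (by rw [quat_add, quat_ofPair, quat_ofPair, quat_ofPair])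
    (by rw [perp_add, perp_ofPair, perp_ofPair, perp_ofPair])

theorem quat_zOne : quat (zOne F) = 1 := by
  ext i j; fin_cases i <;> fin_cases j <;> simp [quat, zOne, mkZ]

theorem perp_zOne : perp (zOne F) = 0 := by
  ext i j; fin_cases i <;> fin_cases j <;> simp [perp, zOne, mkZ]

variable {g : ↥(Cfsg.Lie.G2 F)}

theorem perp_act_quat (h2 : (2 : F) ≠ 0) (hg : Commute g (tStd F)) (X : Matrix (Fin 2) (Fin 2) F) :
    perp (act g (ofPair X 0)) = 0 := by
  have hfix : act (tStd F) (ofPair X 0) = ofPair X 0 :=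
    pair_ext (quat_act_tStd _) (by rw [perp_act_tStd, perp_ofPair, neg_zero])
  have h := congrArg perp (congrArg (act g) hfix)
  rw [← act_mul, hg.eq, act_mul, perp_act_tStd] at h
  have : (2 : F) • perp (act g (ofPair X 0)) = 0 := by
    rw [two_smul]; nth_rewrite 1 [← h]; exact neg_add_cancel _
  exact (smul_eq_zero.1 this).resolve_left h2

theorem quat_act_perp (h2 : (2 : F) ≠ 0) (hg : Commute g (tStd F)) (W : Matrix (Fin 2) (Fin 2) F) :
    quat (act g (ofPair 0 W)) = 0 := by
  have hneg : act (tStd F) (ofPair 0 W) = -ofPair 0 W :=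
    pair_ext (by rw [quat_act_tStd, quat_neg, quat_ofPair, neg_zero])
      (by rw [perp_act_tStd, perp_neg])
  have h := congrArg quat (congrArg (act g) hneg)
  rw [← act_mul, hg.eq, act_mul, quat_act_tStd,
    show -ofPair (0 : Matrix (Fin 2) (Fin 2) F) W = (-1 : F) • ofPair 0 W by simp, act_smul, quat_smul,
    neg_one_smul] at h
  have : (2 : F) • quat (act g (ofPair 0 W)) = 0 := by
    rw [two_smul]; nth_rewrite 1 [h]; exact neg_add_cancel _
  exact (smul_eq_zero.1 this).resolve_left h2

/-- The restriction to the quaternion subalgebra. -/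
def quatMap (g : ↥(Cfsg.Lie.G2 F)) (X : Matrix (Fin 2) (Fin 2) F) : Matrix (Fin 2) (Fin 2) F :=
  quat (act g (ofPair X 0))

/-- An automorphism commuting with the standard involution is given by a pair. -/
theorem exists_pair (h2 : (2 : F) ≠ 0) (hg : Commute g (tStd F)) :
    ∃ p : ↥(pairK F), pairHom F p = g := by
  classical
  have hmul : ∀ X Y, quatMap g (X * Y) = quatMap g X * quatMap g Y := fun X Y => by
    have e : ofPair (X * Y) (0 : Matrix (Fin 2) (Fin 2) F) = zornMul (ofPair X 0) (ofPair Y 0) :=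
      pair_ext (by rw [quat_zornMul, quat_ofPair, quat_ofPair, quat_ofPair, perp_ofPair, perp_ofPair,
          Matrix.mul_zero, sub_zero])
        (by rw [perp_zornMul, perp_ofPair, perp_ofPair, perp_ofPair, Matrix.zero_mul, Matrix.zero_mul,
          add_zero])
    simp only [quatMap]
    rw [e, act_zornMul, quat_zornMul, perp_act_quat h2 hg, perp_act_quat h2 hg, Matrix.mul_zero,
      sub_zero]
  have hone : quatMap g 1 = 1 := by
    have e : ofPair (1 : Matrix (Fin 2) (Fin 2) F) 0 = zOne F :=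
      pair_ext (by rw [quat_ofPair, quat_zOne]) (by rw [perp_ofPair, perp_zOne])
    rw [quatMap, e, act_zOne, quat_zOne]
  have hadd : ∀ X Y, quatMap g (X + Y) = quatMap g X + quatMap g Y := fun X Y => by
    rw [quatMap, ← add_zero (0 : Matrix (Fin 2) (Fin 2) F), ofPair_add, act_add, quat_add]
    simp [quatMap]
  have hsmul : ∀ (c : F) X, quatMap g (c • X) = c • quatMap g X := fun c X => by
    have e : ofPair (c • X) (0 : Matrix (Fin 2) (Fin 2) F) = c • ofPair X 0 :=
      pair_ext (by rw [quat_smul, quat_ofPair, quat_ofPair])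
        (by ext i j; fin_cases i <;> fin_cases j <;> simp [perp, ofPair])
    rw [quatMap, e, act_smul, quat_smul, quatMap]
  let φ : Matrix (Fin 2) (Fin 2) F →ₐ[F] Matrix (Fin 2) (Fin 2) F :=
    AlgHom.ofLinearMap ⟨⟨quatMap g, hadd⟩, hsmul⟩ hone hmul
  have hφinj : Function.Injective φ := fun X Y e => by
    have e' : act g (ofPair X 0) = act g (ofPair Y 0) :=
      pair_ext e (by rw [perp_act_quat h2 hg, perp_act_quat h2 hg])
    have := congrArg quat (act_injective g e')
    rwa [quat_ofPair, quat_ofPair] at this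
  let φe : Matrix (Fin 2) (Fin 2) F ≃ₐ[F] Matrix (Fin 2) (Fin 2) F :=
    AlgEquiv.ofBijective φ ⟨hφinj, LinearMap.surjective_of_injective (f := φ.toLinearMap) hφinj⟩
  obtain ⟨T, hT⟩ := AlgEquiv.eq_linearEquivConjAlgEquiv
    ((Matrix.toLinAlgEquiv' (R := F) (n := Fin 2)).symm.trans (φe.trans Matrix.toLinAlgEquiv'))
  let P : GL (Fin 2) F :=
    ⟨LinearMap.toMatrix' T.toLinearMap, LinearMap.toMatrix' T.symm.toLinearMap,
      by rw [← LinearMap.toMatrix'_comp]; simp,
      by rw [← LinearMap.toMatrix'_comp]; simp⟩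
  have hP : ∀ X, quatMap g X = (P : Matrix (Fin 2) (Fin 2) F) * X *
      ((P⁻¹ : GL (Fin 2) F) : Matrix (Fin 2) (Fin 2) F) := fun X => by
    have h := AlgEquiv.congr_fun hT (Matrix.toLinAlgEquiv' X)
    simp only [AlgEquiv.trans_apply, AlgEquiv.symm_apply_apply, LinearEquiv.conjAlgEquiv_apply] at h
    apply (Matrix.toLinAlgEquiv' (R := F) (n := Fin 2)).injective
    rw [show quatMap g X = φe X from rfl, h]
    refine LinearMap.ext fun v => ?_
    simp [P, Matrix.toLinAlgEquiv'_apply, ← Matrix.mulVec_mulVec]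
  set h := (pairHom F (diagPair P))⁻¹ * g with hh
  have hc : Commute h (tStd F) := (pairHom_commute_tStd _).inv_left.mul_left hg
  have hQ : ∀ X, act h (ofPair X 0) = ofPair X 0 := fun X => by
    rw [hh, act_mul]
    apply act_injective (pairHom F (diagPair P))
    rw [← act_mul, mul_inv_cancel, act_one, act_pairHom]
    refine pair_ext ?_ ?_
    · rw [quat_pairLin, quat_ofPair]; exact hP X
    · rw [perp_pairLin, perp_ofPair, perp_act_quat h2 hg, Matrix.mul_zero, Matrix.zero_mul]
  set B := perp (act h (ofPair 0 1)) with hB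
  have hW : ∀ W, act h (ofPair 0 W) = ofPair 0 (B * W) := fun W => by
    have e : ofPair 0 W = zornMul (ofPair (0 : Matrix (Fin 2) (Fin 2) F) 1) (ofPair W.adjugate 0) :=
      pair_ext (by rw [quat_zornMul, quat_ofPair, quat_ofPair, quat_ofPair, perp_ofPair, perp_ofPair]; simp)
        (by rw [perp_zornMul, perp_ofPair, perp_ofPair, perp_ofPair, quat_ofPair, quat_ofPair,
            Matrix.adjugate_fin_two, Matrix.adjugate_fin_two]
            simp [← Matrix.eta_fin_two W])
    refine pair_ext ?_ ?_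
    · rw [quat_act_perp h2 hc, quat_ofPair]
    · rw [perp_ofPair]
      conv_lhs => rw [e, act_zornMul, hQ, perp_zornMul, perp_ofPair, quat_ofPair, ← hB]
      rw [Matrix.zero_mul, zero_add, Matrix.adjugate_fin_two, Matrix.adjugate_fin_two]
      simp [← Matrix.eta_fin_two W]
  have hdetB : B.det = 1 := by
    have hz : zornMul (ofPair (0 : Matrix (Fin 2) (Fin 2) F) 1) (ofPair 0 1) = ofPair (-1) 0 :=
      pair_ext (by rw [quat_zornMul, quat_ofPair, quat_ofPair, perp_ofPair]; simp)
        (by rw [perp_zornMul, perp_ofPair, perp_ofPair, quat_ofPair]; simp)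
    have e := congrArg quat (congrArg (act h) hz)
    rw [act_zornMul, hW, hQ, Matrix.mul_one, quat_zornMul, quat_ofPair, quat_ofPair, perp_ofPair,
      Matrix.adjugate_mul] at e
    simpa using congrFun (congrFun e 0) 0
  let Bu : GL (Fin 2) F := Matrix.GeneralLinearGroup.mkOfDetNeZero B (by rw [hdetB]; exact one_ne_zero)
  have hmem : ((1, Bu) : GL (Fin 2) F × GL (Fin 2) F) ∈ pairK F := by
    rw [mem_pairK]
    show (1 : Matrix (Fin 2) (Fin 2) F).det = B.det
    rw [hdetB, Matrix.det_one]
  have hh' : pairHom F ⟨_, hmem⟩ = h := ext_of_act fun x => by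
    rw [act_pairHom]
    have hx : x = ofPair (quat x) 0 + ofPair 0 (perp x) := by
      rw [← ofPair_add, add_zero, zero_add, ofPair_quat_perp]
    conv_rhs => rw [hx, act_add, hQ, hW, ← ofPair_add, add_zero, zero_add]
    refine pair_ext ?_ ?_
    · rw [quat_pairLin, quat_ofPair]; simp
    · rw [perp_pairLin, perp_ofPair]; simp [Bu]
  refine ⟨diagPair P * ⟨_, hmem⟩, ?_⟩
  rw [map_mul, hh', hh, mul_inv_cancel_left]

theorem centralizer_tStd (h2 : (2 : F) ≠ 0) :
    Subgroup.centralizer ({tStd F} : Set ↥(Cfsg.Lie.G2 F)) = (pairHom F).range := by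
  ext g
  rw [Subgroup.mem_centralizer_singleton_iff]
  constructor
  · intro hg
    obtain ⟨p, hp⟩ := exists_pair h2 (g := g) hg
    exact ⟨p, hp⟩
  · rintro ⟨p, rfl⟩
    exact pairHom_commute_tStd p

variable [Fintype F]

theorem diag2_eq_scalar (c : Fˣ) (X : Matrix (Fin 2) (Fin 2) F) :
    ((diag2 c c : GL (Fin 2) F) : Matrix (Fin 2) (Fin 2) F) * X *
      (((diag2 c c)⁻¹ : GL (Fin 2) F) : Matrix (Fin 2) (Fin 2) F) = X := by
  rw [diag2_inv]
  ext i j
  fin_cases i <;> fin_cases j <;>
    simp [diag2, Matrix.mul_apply, Fin.sum_univ_two, Matrix.vecMul, dotProduct] <;> field_simp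

/-- The scalar pairs. -/
def scalK (F : Type u) [Field F] [Fintype F] : Fˣ →* ↥(pairK F) where
  toFun c := diagK F (diag2 c c)
  map_one' := by rw [diag2_one, map_one]
  map_mul' a b := by rw [← map_mul, diag2_mul_diag2]

theorem scalK_injective : Function.Injective (scalK F) := fun a b h => by
  have := congrArg (fun p : ↥(pairK F) => ((p.1.1 : GL (Fin 2) F) : Matrix (Fin 2) (Fin 2) F) 0 0) h
  exact Units.ext (by simpa [scalK, diagK, diagPair, diag2] using this)

theorem ker_pairHom : (pairHom F).ker = (scalK F).range := by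
  ext p
  constructor
  · intro hp
    obtain ⟨c, hc⟩ := eq_of_pairHom_eq_one (MonoidHom.mem_ker.1 hp)
    exact ⟨c, hc.symm⟩
  · rintro ⟨c, rfl⟩
    refine MonoidHom.mem_ker.2 (ext_of_act fun x => ?_)
    rw [act_pairHom, act_one]
    refine pair_ext ?_ ?_
    · rw [quat_pairLin]; exact diag2_eq_scalar c _
    · rw [perp_pairLin]; exact diag2_eq_scalar c _

theorem slHom_ker_cases {p : SpecialLinearGroup (Fin 2) F × SpecialLinearGroup (Fin 2) F}
    (h : slHom F p = 1) : p = 1 ∨ p = (-1, -1) := by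
  obtain ⟨c, hc⟩ := eq_of_pairHom_eq_one (p := slPair F p) h
  have h1 : (p.1 : Matrix (Fin 2) (Fin 2) F) = !![(c : F), 0; 0, (c : F)] := by
    rw [← slPair_coe_fst, hc]; rfl
  have h2 : (p.2 : Matrix (Fin 2) (Fin 2) F) = !![(c : F), 0; 0, (c : F)] := by
    rw [← slPair_coe_snd, hc]; rfl
  have hd := p.1.2
  rw [h1, det_fin_two_of, mul_zero, sub_zero] at hd
  rcases mul_self_eq_one_iff.1 hd with e | e
  · left
    refine Prod.ext (Subtype.ext ?_) (Subtype.ext ?_) <;>
      (first | rw [h1, e] | rw [h2, e]) <;> ext i j <;> fin_cases i <;> fin_cases j <;> simp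
  · right
    refine Prod.ext (Subtype.ext ?_) (Subtype.ext ?_) <;>
      (first | rw [h1, e] | rw [h2, e]) <;> ext i j <;> fin_cases i <;> fin_cases j <;> simp

theorem slHom_neg_neg : slHom F (-1, -1) = 1 := by
  have e : slPair F (-1, -1) = scalK F (-1) := by
    refine Subtype.ext (Prod.ext (Units.ext ?_) (Units.ext ?_))
    · rw [slPair_coe_fst]
      ext i j; fin_cases i <;> fin_cases j <;> simp [scalK, diagK, diagPair, diag2]
    · rw [slPair_coe_snd]
      ext i j; fin_cases i <;> fin_cases j <;> simp [scalK, diagK, diagPair, diag2]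
  rw [slHom, MonoidHom.comp_apply, e, ← MonoidHom.mem_ker, ker_pairHom]
  exact ⟨_, rfl⟩

theorem natCard_ker_slHom (h2 : (2 : F) ≠ 0) : Nat.card ↥(slHom F).ker = 2 := by
  have hne : (1 : SpecialLinearGroup (Fin 2) F × SpecialLinearGroup (Fin 2) F) ≠ (-1, -1) := fun h => by
    have := congrArg (fun q : SpecialLinearGroup (Fin 2) F × SpecialLinearGroup (Fin 2) F =>
      (q.1 : Matrix (Fin 2) (Fin 2) F) 0 0) h
    simp at this
    exact h2 (by linear_combination this)
  have e : ((slHom F).ker : Set (SpecialLinearGroup (Fin 2) F × SpecialLinearGroup (Fin 2) F)) =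
      {1, (-1, -1)} := by
    ext p
    simp only [SetLike.mem_coe, MonoidHom.mem_ker, Set.mem_insert_iff, Set.mem_singleton_iff]
    exact ⟨slHom_ker_cases, by rintro (rfl | rfl); exacts [map_one _, slHom_neg_neg]⟩
  show Nat.card ↥((slHom F).ker : Set (SpecialLinearGroup (Fin 2) F × SpecialLinearGroup (Fin 2) F)) = 2
  rw [e, Nat.card_coe_set_eq, Set.ncard_pair hne]

theorem sl2Fst_injective (h2 : (2 : F) ≠ 0) : Function.Injective (sl2Fst F) :=
  (injective_iff_map_eq_one _).2 fun a ha => by
    rcases slHom_ker_cases (p := (a, 1)) ha with h | h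
    · exact (Prod.ext_iff.1 h).1
    · exfalso
      have := congrArg (fun q : SpecialLinearGroup (Fin 2) F => (q : Matrix (Fin 2) (Fin 2) F) 0 0)
        (Prod.ext_iff.1 h).2
      simp at this
      exact h2 (by linear_combination this)

theorem sl2Snd_injective (h2 : (2 : F) ≠ 0) : Function.Injective (sl2Snd F) :=
  (injective_iff_map_eq_one _).2 fun a ha => by
    rcases slHom_ker_cases (p := (1, a)) ha with h | h
    · exact (Prod.ext_iff.1 h).2
    · exfalso
      have := congrArg (fun q : SpecialLinearGroup (Fin 2) F => (q : Matrix (Fin 2) (Fin 2) F) 0 0)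
        (Prod.ext_iff.1 h).1
      simp at this
      exact h2 (by linear_combination this)

theorem inf_range (h2 : (2 : F) ≠ 0) :
    (sl2Fst F).range ⊓ (sl2Snd F).range = Subgroup.zpowers (tStd F) := by
  refine le_antisymm ?_ ?_
  · rintro x ⟨⟨a, ha⟩, b, hb⟩
    have h : slHom F (a, b⁻¹) = 1 := by
      have : slHom F (a, b⁻¹) = sl2Fst F a * (sl2Snd F b)⁻¹ := by
        rw [sl2Fst, sl2Snd, MonoidHom.comp_apply, MonoidHom.comp_apply, ← map_inv, ← map_mul]
        simp
      rw [this, ha, hb, mul_inv_cancel]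
    rcases slHom_ker_cases h with e | e
    · rw [← ha, show a = 1 from (Prod.ext_iff.1 e).1, map_one]
      exact one_mem _
    · rw [← ha, show a = -1 from (Prod.ext_iff.1 e).1]
      have : sl2Fst F (-1) = tStd F := by
        rw [← slHom_one_neg, ← one_mul (slHom F (1, -1)), ← slHom_neg_neg, ← map_mul, sl2Fst,
          MonoidHom.comp_apply]
        simp
      rw [this]; exact Subgroup.mem_zpowers _
  · rw [Subgroup.zpowers_le]
    refine ⟨⟨-1, ?_⟩, -1, ?_⟩
    · rw [← slHom_one_neg, ← one_mul (slHom F (1, -1)), ← slHom_neg_neg, ← map_mul, sl2Fst,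
        MonoidHom.comp_apply]
      simp
    · rw [← slHom_one_neg]; rfl

theorem commute_factors (a b : SpecialLinearGroup (Fin 2) F) :
    Commute (sl2Fst F a) (sl2Snd F b) := by
  rw [sl2Fst, sl2Snd, MonoidHom.comp_apply, MonoidHom.comp_apply]
  exact Commute.map (Commute.prod (Commute.one_right _) (Commute.one_left _)) _

theorem sup_range : (sl2Fst F).range ⊔ (sl2Snd F).range = (slHom F).range := by
  refine le_antisymm (sup_le ?_ ?_) ?_
  · rintro _ ⟨a, rfl⟩; exact ⟨(a, 1), rfl⟩
  · rintro _ ⟨a, rfl⟩; exact ⟨(1, a), rfl⟩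
  rintro _ ⟨⟨a, b⟩, rfl⟩
  rw [show slHom F (a, b) = sl2Fst F a * sl2Snd F b by
    rw [sl2Fst, sl2Snd, MonoidHom.comp_apply, MonoidHom.comp_apply, ← map_mul]; simp]
  exact Subgroup.mul_mem_sup ⟨a, rfl⟩ ⟨b, rfl⟩

theorem natCard_pairK :
    Nat.card ↥(pairK F) = Nat.card Fˣ * Nat.card (SpecialLinearGroup (Fin 2) F) ^ 2 := by
  have hs : Function.Surjective (pairDet F) := fun c => by
    refine ⟨diagK F (diag2 c 1), Units.ext ?_⟩
    rw [pairDet_coe]
    simp [diagK, diagPair, diag2, det_fin_two_of]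
  rw [← Subgroup.index_mul_card (pairDet F).ker, Subgroup.index_ker, MonoidHom.range_eq_top.2 hs,
    Subgroup.card_top, ← range_slPair, ← Nat.card_congr (MonoidHom.ofInjective slPair_injective).toEquiv,
    Nat.card_prod, sq]

theorem natCard_range_pairHom :
    Nat.card ↥(pairHom F).range = Nat.card (SpecialLinearGroup (Fin 2) F) ^ 2 := by
  have h := Subgroup.index_mul_card (pairHom F).ker
  rw [Subgroup.index_ker, ker_pairHom,
    ← Nat.card_congr (MonoidHom.ofInjective scalK_injective).toEquiv, natCard_pairK, mul_comm (Nat.card Fˣ)] at h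
  exact Nat.eq_of_mul_eq_mul_right Nat.card_pos h

theorem natCard_range_slHom (h2 : (2 : F) ≠ 0) :
    Nat.card ↥(slHom F).range * 2 = Nat.card (SpecialLinearGroup (Fin 2) F) ^ 2 := by
  have h := Subgroup.index_mul_card (slHom F).ker
  rwa [Subgroup.index_ker, natCard_ker_slHom h2, Nat.card_prod, ← sq] at h

theorem natCard_SL2 :
    Nat.card (SpecialLinearGroup (Fin 2) F) = Fintype.card F * (Fintype.card F ^ 2 - 1) := by
  have h := LinGroup.card_SL_mul (F := F) 2 (by norm_num)
  rw [Fin.prod_univ_two] at h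
  have hq : 2 ≤ Fintype.card F := Fintype.one_lt_card
  refine Nat.eq_of_mul_eq_mul_left (show 0 < Fintype.card F - 1 by omega) (h.trans ?_)
  have h1 : 1 ≤ Fintype.card F ^ 2 := Nat.one_le_pow _ _ (by omega)
  have h3 : Fintype.card F ≤ Fintype.card F ^ 2 := Nat.le_self_pow (by omega) _
  simp only [Fin.val_zero, Fin.val_one, pow_zero, pow_one]
  zify [h1, h3, show 1 ≤ Fintype.card F by omega]
  ring

end Cfsg.Agent.Lib.G2Inv
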