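import Cfsg.Agent.Lib.G2Inv.Norm
import Cfsg.Agent.Lib.SignDiag.Basic
import Cfsg.Agent.Lib.ZornG2.Sylow

/-!
All involutions of the automorphism group of Zorn's algebra are conjugate in odd characteristic.
-/

set_option autoImplicit false

namespace Cfsg.Agent.Lib.G2Inv

open Cfsg.Lie Matrix Cfsg.Agent.Lib.ZornG2

variable {F : Type*} [Field F]

/-- The signs of the standard involution. -/
def sgn3 (F : Type*) [Field F] : Fin 3 → F := ![1, -1, -1]

/-- `diag(1, -1, -1)`. -/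
def dSign (F : Type*) [Field F] : SpecialLinearGroup (Fin 3) F :=
  ⟨Matrix.diagonal (sgn3 F), by simp [sgn3, Fin.prod_univ_three]⟩

/-- The standard involution. -/
def tStd (F : Type*) [Field F] : ↥(Cfsg.Lie.G2 F) := sl3Hom F (dSign F)

theorem sl3Hom_mem_stabE (M : SpecialLinearGroup (Fin 3) F) : sl3Hom F M ∈ stabE F := by
  show act (sl3Hom F M) (zE F) = zE F
  rw [act_sl3Hom, zE, sl3Lin_mkZ, Matrix.mulVec_zero, Matrix.mulVec_zero]

theorem blockHom_sl3Hom (M : SpecialLinearGroup (Fin 3) F) :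
    blockHom F ⟨sl3Hom F M, sl3Hom_mem_stabE M⟩ = M := by
  refine Subtype.ext (Matrix.ext_of_mulVec_single fun j => ?_)
  show aBlock (sl3Hom F M) *ᵥ Pi.single j 1 = _
  have h := aBlock_spec (sl3Hom_mem_stabE M) (Pi.single j (1 : F))
  rw [act_sl3Hom, sl3Lin_mkZ] at h
  exact (mkZ_inj h).2.1.symm

theorem exists_sl3_conj (h2 : (2 : F) ≠ 0) {M : SpecialLinearGroup (Fin 3) F} (hM : M * M = 1)
    (h1 : M ≠ 1) : ∃ P : SpecialLinearGroup (Fin 3) F, M * P = P * dSign F := by
  obtain ⟨P, hP⟩ := SignDiag.exists_signDiag h2 {(M : Matrix (Fin 3) (Fin 3) F)} (Set.finite_singleton _)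
    (by rintro a rfl; exact congrArg Subtype.val hM) (by rintro a rfl b rfl; rfl)
  obtain ⟨s, hs, e⟩ := hP _ rfl
  have hdet : s 0 * s 1 * s 2 = 1 := by
    have h := congrArg Matrix.det e
    rw [det_mul, det_mul, det_diagonal, M.2, one_mul, Fin.prod_univ_three] at h
    exact (mul_left_cancel₀ ((isUnit_iff_isUnit_det _).1 P.isUnit).ne_zero
      ((mul_one _).trans h)).symm
  have hne : s ≠ fun _ => 1 := fun h => h1 (Subtype.ext (by
    rw [h, Matrix.diagonal_one, mul_one] at e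
    show (M : Matrix (Fin 3) (Fin 3) F) = 1
    exact P.isUnit.mul_right_cancel (e.trans (one_mul _).symm)))
  obtain ⟨Q, hQ0, hQ⟩ : ∃ Q : Matrix (Fin 3) (Fin 3) F, Q.det ≠ 0 ∧
      diagonal s * Q = Q * diagonal (sgn3 F) := by
    have hn : (1 : F) ≠ -1 := fun h => h2 (by linear_combination h)
    rcases hs 0 with a | a <;> rcases hs 1 with b | b <;> rcases hs 2 with c | c <;>
      rw [a, b, c] at hdet <;> norm_num at hdet
    all_goals first
      | exact absurd hdet hn.symm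
      | (exfalso; apply hne; funext i; fin_cases i <;> assumption; done)
      | (refine ⟨1, by simp, ?_⟩
         ext i j; fin_cases i <;> fin_cases j <;> simp [sgn3, a, b, c]; done)
      | (refine ⟨!![0, 1, 0; 1, 0, 0; 0, 0, 1], by simp [det_fin_three], ?_⟩
         ext i j; fin_cases i <;> fin_cases j <;>
           simp [sgn3, Matrix.mul_apply, Fin.sum_univ_three, Matrix.diagonal, a, b, c]; done)
      | (refine ⟨!![0, 0, 1; 0, 1, 0; 1, 0, 0], by simp [det_fin_three], ?_⟩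
         ext i j; fin_cases i <;> fin_cases j <;>
           simp [sgn3, Matrix.mul_apply, Fin.sum_univ_three, Matrix.diagonal, a, b, c]; done)
  set R : Matrix (Fin 3) (Fin 3) F := (P : Matrix (Fin 3) (Fin 3) F) * Q with hR
  have hR0 : R.det ≠ 0 := by
    rw [hR, det_mul]
    exact mul_ne_zero ((isUnit_iff_isUnit_det _).1 P.isUnit).ne_zero hQ0
  have hRM : (M : Matrix (Fin 3) (Fin 3) F) * R = R * diagonal (sgn3 F) := by
    rw [hR, ← mul_assoc, e, mul_assoc, hQ, mul_assoc]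
  set C : Matrix (Fin 3) (Fin 3) F := diagonal ![R.det⁻¹, 1, 1] with hC
  refine ⟨⟨R * C, by rw [det_mul, hC, det_diagonal, Fin.prod_univ_three]; simp [hR0]⟩, Subtype.ext ?_⟩
  show (M : Matrix (Fin 3) (Fin 3) F) * (R * C) = R * C * diagonal (sgn3 F)
  rw [← mul_assoc, hRM, mul_assoc R, mul_assoc R, hC, diagonal_mul_diagonal, diagonal_mul_diagonal]
  simp only [mul_comm]

theorem tStd_mul_self : tStd F * tStd F = 1 := by
  rw [tStd, ← map_mul, show dSign F * dSign F = 1 from Subtype.ext (by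
    show diagonal (sgn3 F) * diagonal (sgn3 F) = 1
    rw [diagonal_mul_diagonal, ← diagonal_one]
    congr 1; funext i; fin_cases i <;> simp [sgn3]), map_one]

/-- Every involution is conjugate to the standard one. -/
theorem exists_conj_tStd [Fintype F] (h2 : (2 : F) ≠ 0) {t : ↥(Cfsg.Lie.G2 F)} (ht : t * t = 1)
    (h1 : t ≠ 1) : ∃ g : ↥(Cfsg.Lie.G2 F), g * t * g⁻¹ = tStd F := by
  obtain ⟨e, he, hte⟩ := exists_fixed_idem h2 ht h1
  obtain ⟨g, hg⟩ := exists_move he
  have hs : g * t * g⁻¹ ∈ stabE F := by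
    show act (g * t * g⁻¹) (zE F) = zE F
    rw [act_mul, act_mul, ← hg, ← act_mul g⁻¹ g, inv_mul_cancel, act_one, hte]
  set s : ↥(stabE F) := ⟨g * t * g⁻¹, hs⟩ with hsdef
  have hs2 : s * s = 1 := Subtype.ext (by
    show g * t * g⁻¹ * (g * t * g⁻¹) = 1
    rw [show g * t * g⁻¹ * (g * t * g⁻¹) = g * (t * t) * g⁻¹ by group, ht, mul_one, mul_inv_cancel])
  have hs1 : s ≠ 1 := fun h => h1 (by
    have h' : g * t * g⁻¹ = 1 := congrArg Subtype.val h
    exact conj_eq_one_iff.1 h')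
  obtain ⟨P, hP⟩ := exists_sl3_conj h2 (M := blockHom F s) (by rw [← map_mul, hs2, map_one])
    (fun h => hs1 (blockHom_injective (h.trans (map_one _).symm)))
  set p : ↥(stabE F) := ⟨sl3Hom F P, sl3Hom_mem_stabE P⟩
  set d : ↥(stabE F) := ⟨tStd F, sl3Hom_mem_stabE _⟩
  have e2 : s * p = p * d := blockHom_injective (by
    rw [map_mul, map_mul, blockHom_sl3Hom, show blockHom F d = dSign F from blockHom_sl3Hom _]
    exact hP)
  have e3 : g * t * g⁻¹ * sl3Hom F P = sl3Hom F P * tStd F := congrArg Subtype.val e2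
  refine ⟨(sl3Hom F P)⁻¹ * g, ?_⟩
  rw [eq_inv_mul_iff_mul_eq.2 e3.symm]
  group

end Cfsg.Agent.Lib.G2Inv
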