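import Cfsg.Agent.Lib.G2Inv.Model
import Cfsg.Agent.Lib.ZornG2.Idem
import Cfsg.Agent.Lib.ZornG2.Sylow
import Cfsg.Agent.Lib.LinGroup.Order
import Cfsg.Agent.S1059

/-!
The Chevalley group of type G2 over a finite field is isomorphic to the automorphism group of
Zorn's algebra.
-/

set_option autoImplicit false

namespace Cfsg.Agent.Lib.G2Inv

open Cfsg.Lie Matrix Cfsg.Agent.Lib.ZornG2

variable {F : Type*} [Field F]

/-- Left multiplication by an element. -/
def leftF (x : Fin 8 → F) : Matrix (Fin 8) (Fin 8) F := ∑ c, x c • sm F (leftS c)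

theorem leftF_mulVec (x y : Fin 8 → F) : leftF x *ᵥ y = zornMul x y := by
  funext i
  simp only [leftF, Matrix.mulVec, dotProduct, Matrix.sum_apply, Matrix.smul_apply, sm_apply,
    smul_eq_mul, Fin.sum_univ_eight]
  fin_cases i <;>
    simp [coef, leftS, leftList, zornMul, zA, zB, dot3, cross3] <;> ring

theorem sum_idxList (f : chevG2.Idx → Matrix (Fin 8) (Fin 8) F) :
    (idxList.map f).sum = ∑ i, f i := by
  rw [idxList, List.map_append, List.sum_append, List.map_map, List.map_map, Fintype.sum_sum_type,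
    Fin.sum_univ_def, Fin.sum_univ_def]
  rfl

/-- The basis of derivations over `F`. -/
def basisF (F : Type*) [Field F] (j : chevG2.Idx) : Matrix (Fin 8) (Fin 8) F := sm F (basisS j)

theorem sum_filter_pow (t : F) : ∀ l : List (ℕ × ℤ), (l.all fun e => decide (e.1 < 4)) = true →
    (l.map fun km => (km.2 : F) * t ^ km.1).sum =
      ∑ k ∈ Finset.range 4, (((l.filter fun e => decide (e.1 = k)).map Prod.snd).sum : F) * t ^ k
  | [], _ => by simp
  | e :: l, h => by
    simp only [List.all_cons, Bool.and_eq_true, decide_eq_true_eq] at h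
    rw [List.map_cons, List.sum_cons, sum_filter_pow t l h.2]
    have hk : ∀ k : ℕ, ((((e :: l).filter fun e => decide (e.1 = k)).map Prod.snd).sum : F) =
        (if e.1 = k then (e.2 : F) else 0) +
          (((l.filter fun e => decide (e.1 = k)).map Prod.snd).sum : F) := by
      intro k
      by_cases hek : e.1 = k <;> simp [List.filter_cons, hek]
    simp only [hk, add_mul, Finset.sum_add_distrib, ite_mul, zero_mul, Finset.sum_ite_eq,
      Finset.mem_range, h.1, if_true]

theorem xMat_eq (r : Fin chevG2.nroots) (t : F) (row col : chevG2.Idx) :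
    chevG2.xMat F r t row col = ∑ k ∈ Finset.range 4, (xCoef k r row col : F) * t ^ k := by
  simp only [ChevalleyDatum.xMat, Matrix.of_apply, Finset.sum_range_succ, Finset.sum_range_zero]
  rcases col with i | s <;> rcases row with i' | u <;> simp only [xCoef]
  · split_ifs <;> simp_all
  · split_ifs <;> simp_all
  · split_ifs <;> simp_all
  · rw [sum_filter_pow t _ (chain_deg r s u)]
    simp only [Finset.sum_range_succ, Finset.sum_range_zero]
    split_ifs <;> simp_all <;> ring

/-- The polynomial of a root element. -/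
def yMat (r : ℕ) (t : F) : Matrix (Fin 8) (Fin 8) F :=
  sm F (yS r 0) + t • sm F (yS r 1) + t ^ 2 • sm F (yS r 2)

theorem yMat_mul_neg {r : ℕ} (hr : r < chevG2.nroots) (t : F) : yMat r t * yMat r (-t) = 1 := by
  have h := root_inverse ⟨r, hr⟩
  simp only [Bool.and_eq_true] at h
  obtain ⟨⟨⟨h1, h2⟩, h3⟩, h4⟩ := h
  have e1 := sm_eq_of_same (R := F) h1
  have e2 := sm_eq_of_same (R := F) h2
  have e3 := sm_eq_of_same (R := F) h3
  have e4 := sm_eq_of_same (R := F) h4
  simp only [sm_mulS, sm_smulS, sm_nil] at e1 e2 e3 e4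
  simp only [yMat, show yS r 0 = idS from rfl, show yS r 1 = rootS r from rfl, sm_idS, add_mul, mul_add,
    one_mul, mul_one, Matrix.smul_mul, Matrix.mul_smul, smul_smul, e1, e2, e3, e4, smul_zero]
  push_cast
  module

/-- The root element. -/
def rootYG (r : Fin chevG2.nroots) (t : F) : GL (Fin 8) F :=
  ⟨yMat r.val t, yMat r.val (-t), yMat_mul_neg r.isLt t, by
    simpa using yMat_mul_neg r.isLt (-t)⟩

theorem coe_rootYG (r : Fin chevG2.nroots) (t : F) :
    (rootYG r t : Matrix (Fin 8) (Fin 8) F) = yMat r.val t := rfl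

theorem yMat_apply_col (r : ℕ) (t : F) (c a : Fin 8) :
    yMat r t c a = (coef (yS r 0) c a : F) + t * (coef (yS r 1) c a : F) +
      t ^ 2 * (coef (yS r 2) c a : F) := by
  simp [yMat, sm_apply]

theorem yMat_left (r : Fin chevG2.nroots) (t : F) (a : Fin 8) :
    yMat r.val t * sm F (leftS a) = (∑ c, yMat r.val t c a • sm F (leftS c)) * yMat r.val t := by
  have h := inter_of_ok (R := F) (aut_table r a) t
  rw [yMat, h]
  congr 1
  simp only [sm_combS, ← Fin.sum_univ_def, show (0:ℕ) < 3 by norm_num, show (1:ℕ) < 3 by norm_num,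
    show (2:ℕ) < 3 by norm_num, show ¬ (3:ℕ) < 3 by norm_num, if_true, if_false, Int.cast_zero,
    zero_smul, Finset.sum_const_zero, smul_zero, add_zero, Finset.smul_sum, smul_smul,
    ← Finset.sum_add_distrib, ← add_smul]
  exact Finset.sum_congr rfl fun c _ => by rw [← yMat_apply_col]; rfl

theorem rootYG_mem (r : Fin chevG2.nroots) (t : F) : rootYG r t ∈ Cfsg.Lie.G2 F := by
  intro x y
  show yMat r.val t *ᵥ zornMul x y = zornMul (yMat r.val t *ᵥ x) (yMat r.val t *ᵥ y)
  rw [← leftF_mulVec, ← leftF_mulVec, Matrix.mulVec_mulVec, Matrix.mulVec_mulVec]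
  congr 1
  simp only [leftF, Finset.mul_sum, Matrix.mul_smul, yMat_left, Matrix.mulVec, dotProduct,
    Finset.sum_mul, Finset.smul_sum, Finset.sum_smul, Matrix.smul_mul, smul_smul]
  rw [Finset.sum_comm]
  exact Finset.sum_congr rfl fun c _ => Finset.sum_congr rfl fun a _ => by rw [mul_comm]

/-- Pairs of an automorphism and a matrix giving its action on the derivations. -/
def pairGrp (F : Type*) [Field F] : Subgroup (↥(Cfsg.Lie.G2 F) × GL chevG2.Idx F) where
  carrier := {p | ∀ j, ((p.1 : GL (Fin 8) F) : Matrix (Fin 8) (Fin 8) F) * basisF F j =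
    (∑ i, (p.2 : Matrix chevG2.Idx chevG2.Idx F) i j • basisF F i) *
      ((p.1 : GL (Fin 8) F) : Matrix (Fin 8) (Fin 8) F)}
  one_mem' := fun j => by
    simp [Matrix.one_apply, ite_smul]
  mul_mem' {p q} hp hq := fun j => by
    simp only [Prod.fst_mul, Prod.snd_mul, Subgroup.coe_mul, Units.val_mul]
    set g : Matrix (Fin 8) (Fin 8) F := ((p.1 : GL (Fin 8) F) : Matrix (Fin 8) (Fin 8) F) with hg
    have hp' : ∀ i, g * basisF F i =
        (∑ k, (p.2 : Matrix chevG2.Idx chevG2.Idx F) k i • basisF F k) * g := hp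
    rw [mul_assoc, hq j, ← mul_assoc, Finset.mul_sum]
    simp only [Matrix.mul_smul, hp']
    rw [← mul_assoc (∑ i, _ : Matrix (Fin 8) (Fin 8) F)]
    congr 1
    simp only [Finset.sum_mul, Finset.smul_sum, Matrix.smul_mul, smul_smul, Matrix.mul_apply,
      Finset.sum_smul]
    rw [Finset.sum_comm]
    exact Finset.sum_congr rfl fun i _ => Finset.sum_congr rfl fun k _ => by rw [mul_comm]
  inv_mem' {p} hp := fun j => by
    set g : Matrix (Fin 8) (Fin 8) F := ((p.1 : GL (Fin 8) F) : Matrix (Fin 8) (Fin 8) F) with hg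
    set gi : Matrix (Fin 8) (Fin 8) F := (((p.1 : GL (Fin 8) F)⁻¹ : GL (Fin 8) F) : Matrix (Fin 8) (Fin 8) F)
    have h1 : g * gi = 1 := Units.mul_inv _
    have h2 : gi * g = 1 := Units.inv_mul _
    have key : g * (∑ i, ((p.2⁻¹ : GL chevG2.Idx F) : Matrix chevG2.Idx chevG2.Idx F) i j • basisF F i) =
        basisF F j * g := by
      have hp' : ∀ i, g * basisF F i =
          (∑ k, (p.2 : Matrix chevG2.Idx chevG2.Idx F) k i • basisF F k) * g := hp
      rw [Finset.mul_sum]
      simp only [Matrix.mul_smul, hp']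
      simp only [Finset.smul_sum, Finset.sum_mul, Matrix.smul_mul, smul_smul]
      rw [Finset.sum_comm]
      have e : ∀ k, ∑ i, ((p.2⁻¹ : GL chevG2.Idx F) : Matrix chevG2.Idx chevG2.Idx F) i j *
          (p.2 : Matrix chevG2.Idx chevG2.Idx F) k i = (1 : Matrix chevG2.Idx chevG2.Idx F) k j := by
        intro k
        rw [← Units.mul_inv p.2, Matrix.mul_apply]
        exact Finset.sum_congr rfl fun i _ => mul_comm _ _
      simp only [← Finset.sum_smul, e, Matrix.one_apply, ite_smul, one_smul, zero_smul, Finset.sum_ite_eq',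
        Finset.mem_univ, if_true]
    show gi * basisF F j = _
    calc gi * basisF F j = gi * (basisF F j * g) * gi := by
          rw [mul_assoc, mul_assoc, h1, mul_one]
      _ = _ := by
          rw [← key, ← mul_assoc gi g, h2, one_mul]
          rfl

theorem rootY_pair (r : Fin chevG2.nroots) (t : F) (g : GL chevG2.Idx F)
    (hg : (g : Matrix chevG2.Idx chevG2.Idx F) = chevG2.xMat F r t) :
    ((⟨rootYG r t, rootYG_mem r t⟩ : ↥(Cfsg.Lie.G2 F)), g) ∈ pairGrp F := fun j => by
  show yMat r.val t * sm F (basisS j) = _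
  rw [yMat, inter_of_ok (R := F) (conj_table r j) t]
  congr 1
  simp only [sm_combS, sum_idxList, hg, xMat_eq, Finset.sum_range_succ, Finset.sum_range_zero,
    pow_zero, pow_one, zero_add, mul_one, add_smul, Finset.smul_sum, smul_smul,
    Finset.sum_add_distrib, basisF]
  simp only [mul_comm]

theorem pair_snd_unique {g : ↥(Cfsg.Lie.G2 F)} {M : GL chevG2.Idx F} (h : (g, M) ∈ pairGrp F)
    (hg : g = 1) : M = 1 := by
  subst hg
  refine Units.ext (Matrix.ext fun k j => ?_)
  have e := h j
  simp only [Subgroup.coe_one, Units.val_one, one_mul, mul_one] at e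
  have e2 := congrArg (fun X : Matrix (Fin 8) (Fin 8) F =>
    ((dualS k).map fun d => (d.2.2 : F) * X d.1 d.2.1).sum) e
  have hp : ∀ i, ((dualS k).map fun d => (d.2.2 : F) * sm F (basisS i) d.1 d.2.1).sum =
      if k = i then 1 else 0 := by
    intro i
    have h1 := congrArg (fun z : ℤ => (z : F)) (dual_basis k i)
    simp only [pairS, List.map_map, Function.comp_def] at h1
    simp only [sm_apply]
    rw [Int.cast_list_sum, List.map_map] at h1
    simp only [Function.comp_def, Int.cast_mul, Int.cast_ite, Int.cast_one, Int.cast_zero] at h1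
    exact h1
  have hlin : ∀ l : SM, ((l.map fun d => (d.2.2 : F) *
      (∑ i, (M : Matrix chevG2.Idx chevG2.Idx F) i j • basisF F i) d.1 d.2.1)).sum =
      ∑ i, (M : Matrix chevG2.Idx chevG2.Idx F) i j *
        (l.map fun d => (d.2.2 : F) * sm F (basisS i) d.1 d.2.1).sum := by
    intro l
    induction l with
    | nil => simp
    | cons d l ih =>
      rw [List.map_cons, List.sum_cons, ih]
      simp only [List.map_cons, List.sum_cons, mul_add, Finset.sum_add_distrib, Matrix.sum_apply,
        Finset.mul_sum, Matrix.smul_apply, smul_eq_mul, basisF]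
      congr 1
      exact Finset.sum_congr rfl fun i _ => by ring
  simp only [hlin] at e2
  simp only [basisF, hp, mul_ite, mul_one, mul_zero, Finset.sum_ite_eq, Finset.mem_univ, if_true] at e2
  rw [Units.val_one, Matrix.one_apply]
  exact e2.symm

theorem natCard_G2_le [Fintype F] :
    Nat.card ↥(Cfsg.Lie.G2 F) ≤
      Nat.card F ^ 3 * (Nat.card F ^ 3 + 1) * Nat.card (SpecialLinearGroup (Fin 3) F) := by
  rw [← Subgroup.index_mul_card (stabE F), Subgroup.index_eq_card, natCard_quot_stabE, natCard_idem]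
  exact Nat.mul_le_mul_left _ (Nat.card_le_card_of_injective _ blockHom_injective)

theorem count_arith {q s : ℕ} (hq : 2 ≤ q)
    (hs : (q - 1) * s = (q ^ 3 - 1) * (q ^ 3 - q) * (q ^ 3 - q ^ 2)) :
    q ^ 3 * (q ^ 3 + 1) * s = q ^ 6 * (q ^ 2 - 1) * (q ^ 6 - 1) := by
  refine Nat.eq_of_mul_eq_mul_left (show 0 < q - 1 by omega) ?_
  rw [show (q - 1) * (q ^ 3 * (q ^ 3 + 1) * s) = q ^ 3 * (q ^ 3 + 1) * ((q - 1) * s) by ring, hs]
  have h1 : 1 ≤ q ^ 2 := Nat.one_le_pow _ _ (by omega)
  have h2 : 1 ≤ q ^ 3 := Nat.one_le_pow _ _ (by omega)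
  have h3 : 1 ≤ q ^ 6 := Nat.one_le_pow _ _ (by omega)
  have h4 : q ≤ q ^ 3 := Nat.le_self_pow (by omega) _
  have h5 : q ^ 2 ≤ q ^ 3 := Nat.pow_le_pow_right (by omega) (by omega)
  zify [h1, h2, h3, h4, h5, show 1 ≤ q by omega]
  ring

theorem natCard_G2_le' [Fintype F] :
    Nat.card ↥(Cfsg.Lie.G2 F) ≤ Nat.card ↥(chevG2.group F) := by
  refine natCard_G2_le.trans (le_of_eq ?_)
  rw [S1059.result rfl, Nat.card_eq_fintype_card (α := F)]
  refine count_arith Fintype.one_lt_card ?_
  rw [LinGroup.card_SL_mul 3 (by norm_num), Fin.prod_univ_three]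
  simp

theorem nonempty_iso [Fintype F] :
    Nonempty (↥(chevG2.group F) ≃* ↥(Cfsg.Lie.G2 F)) := by
  classical
  let P := pairGrp F
  let π₁ : ↥P →* ↥(Cfsg.Lie.G2 F) := (MonoidHom.fst _ _).comp P.subtype
  let π₂ : ↥P →* GL chevG2.Idx F := (MonoidHom.snd _ _).comp P.subtype
  have h1 : Function.Injective π₁ := (injective_iff_map_eq_one π₁).2 fun p hp =>
    Subtype.ext (Prod.ext hp (pair_snd_unique p.2 hp))
  have hle : chevG2.group F ≤ π₂.range := by
    rw [ChevalleyDatum.group, Subgroup.closure_le]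
    rintro g ⟨r, t, hg⟩
    exact ⟨⟨_, rootY_pair r t g hg⟩, rfl⟩
  haveI : Finite ↥P := Finite.of_injective π₁ h1
  haveI : Finite ↥π₂.range := Finite.of_surjective _ π₂.rangeRestrict_surjective
  have c1 : Nat.card ↥(chevG2.group F) ≤ Nat.card ↥π₂.range :=
    Nat.card_le_card_of_injective _ (Subgroup.inclusion_injective hle)
  have c2 : Nat.card ↥π₂.range ≤ Nat.card ↥P :=
    Nat.card_le_card_of_surjective _ π₂.rangeRestrict_surjective
  have c3 : Nat.card ↥P ≤ Nat.card ↥(Cfsg.Lie.G2 F) := Nat.card_le_card_of_injective _ h1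
  have c4 : Nat.card ↥(Cfsg.Lie.G2 F) ≤ Nat.card ↥(chevG2.group F) := natCard_G2_le'
  have hr : chevG2.group F = π₂.range :=
    Subgroup.eq_of_le_of_card_ge hle (by omega)
  have b1 : Function.Bijective π₁ :=
    (Nat.bijective_iff_injective_and_card π₁).2 ⟨h1, by omega⟩
  have b2 : Function.Bijective π₂.rangeRestrict :=
    (Nat.bijective_iff_surjective_and_card _).2 ⟨π₂.rangeRestrict_surjective, by omega⟩
  exact ⟨((MulEquiv.subgroupCongr hr).trans (MulEquiv.ofBijective _ b2).symm).trans
    (MulEquiv.ofBijective π₁ b1)⟩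

end Cfsg.Agent.Lib.G2Inv
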