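import Cfsg.Agent.Lib.G2Inv.Centralizer
import Cfsg.Prelude.Def_ChevG2

/-!
Involutions of the Chevalley group of type G2 in odd characteristic.
-/

set_option autoImplicit false

namespace Cfsg.Agent.Lib.G2Inv

open Cfsg.Lie Matrix Cfsg.Agent.Lib.ZornG2

universe u

variable {F : Type u} [Field F] [Fintype F]

theorem two_ne_zero_of_odd (hF : Odd (Fintype.card F)) : (2 : F) ≠ 0 := by
  intro h
  have hc : ringChar F = 2 :=
    ringChar.eq_iff.2 ((CharP.charP_iff_prime_eq_zero Nat.prime_two).2 (by exact_mod_cast h))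
  have := (FiniteField.even_card_iff_char_two (F := F)).1 hc
  rw [Nat.odd_iff] at hF
  omega

/-- Every involution is the image of the standard one under some isomorphism. -/
theorem exists_iso_std (hF : Odd (Fintype.card F)) (t : ↥(chevG2.group F)) (ht : orderOf t = 2) :
    ∃ φ : ↥(Cfsg.Lie.G2 F) ≃* ↥(chevG2.group F), φ (tStd F) = t := by
  obtain ⟨e⟩ := nonempty_iso (F := F)
  have h2 := two_ne_zero_of_odd hF
  have hs : e t * e t = 1 := by
    rw [← map_mul, ← pow_two, ← ht, pow_orderOf_eq_one, map_one]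
  have hs1 : e t ≠ 1 := fun h => by
    rw [e.map_eq_one_iff.1 h] at ht
    simp at ht
  obtain ⟨g, hg⟩ := exists_conj_tStd h2 hs hs1
  refine ⟨(MulAut.conj g⁻¹).trans e.symm, ?_⟩
  show e.symm (MulAut.conj g⁻¹ (tStd F)) = t
  rw [← hg, MulAut.conj_apply, show g⁻¹ * (g * e t * g⁻¹) * g⁻¹⁻¹ = e t by group, e.symm_apply_apply]

theorem isConj_involutions (hF : Odd (Fintype.card F)) (s t : ↥(chevG2.group F)) (hs : orderOf s = 2)
    (ht : orderOf t = 2) : IsConj s t := by
  obtain ⟨e⟩ := nonempty_iso (F := F)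
  have h2 := two_ne_zero_of_odd hF
  have key : ∀ x : ↥(chevG2.group F), orderOf x = 2 → IsConj (e x) (tStd F) := fun x hx => by
    have h1 : e x * e x = 1 := by rw [← map_mul, ← pow_two, ← hx, pow_orderOf_eq_one, map_one]
    have h1' : e x ≠ 1 := fun h => by
      rw [e.map_eq_one_iff.1 h] at hx
      simp at hx
    obtain ⟨g, hg⟩ := exists_conj_tStd h2 h1 h1'
    exact isConj_iff.2 ⟨g, hg⟩
  have h := (key s hs).trans (key t ht).symm
  have h' := e.symm.toMonoidHom.map_isConj h
  simpa using h'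

theorem centralizer_structure (hF : Odd (Fintype.card F)) (t : ↥(chevG2.group F)) (ht : orderOf t = 2) :
    Nat.card (Subgroup.centralizer ({t} : Set ↥(chevG2.group F))) =
        Fintype.card F ^ 2 * (Fintype.card F ^ 2 - 1) ^ 2 ∧
      ∃ L₁ L₂ : Subgroup ↥(chevG2.group F),
        Nonempty (L₁ ≃* Matrix.SpecialLinearGroup (Fin 2) F) ∧
        Nonempty (L₂ ≃* Matrix.SpecialLinearGroup (Fin 2) F) ∧
        (∀ x ∈ L₁, ∀ y ∈ L₂, x * y = y * x) ∧ L₁ ⊓ L₂ = Subgroup.zpowers t ∧
        L₁ ⊔ L₂ ≤ Subgroup.centralizer ({t} : Set ↥(chevG2.group F)) ∧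
        (L₁ ⊔ L₂).relIndex (Subgroup.centralizer ({t} : Set ↥(chevG2.group F))) = 2 := by
  have h2 := two_ne_zero_of_odd hF
  obtain ⟨φ, rfl⟩ := exists_iso_std hF t ht
  set f := φ.toMonoidHom with hf
  have hinj : Function.Injective f := φ.injective
  have hC : Subgroup.centralizer ({φ (tStd F)} : Set ↥(chevG2.group F)) = (pairHom F).range.map f := by
    rw [← centralizer_tStd h2]
    ext y
    obtain ⟨x, rfl⟩ := φ.surjective y
    rw [show φ x = f x from rfl, Subgroup.mem_map_iff_mem hinj, Subgroup.mem_centralizer_singleton_iff,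
      Subgroup.mem_centralizer_singleton_iff]
    constructor
    · intro h
      exact φ.injective (by rw [map_mul, map_mul]; exact h)
    · intro h
      show φ x * φ (tStd F) = φ (tStd F) * φ x
      rw [← map_mul, ← map_mul, h]
  have hle : (slHom F).range ≤ (pairHom F).range := by
    rintro _ ⟨p, rfl⟩; exact ⟨_, rfl⟩
  refine ⟨?_, (sl2Fst F).range.map f, (sl2Snd F).range.map f, ⟨?_⟩, ⟨?_⟩, ?_, ?_, ?_, ?_⟩
  · rw [hC, ← Nat.card_congr ((pairHom F).range.equivMapOfInjective f hinj).toEquiv,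
      natCard_range_pairHom, natCard_SL2, mul_pow]
  · exact ((sl2Fst F).range.equivMapOfInjective f hinj).symm.trans
      (MonoidHom.ofInjective (sl2Fst_injective h2)).symm
  · exact ((sl2Snd F).range.equivMapOfInjective f hinj).symm.trans
      (MonoidHom.ofInjective (sl2Snd_injective h2)).symm
  · rintro _ ⟨_, ⟨a, rfl⟩, rfl⟩ _ ⟨_, ⟨b, rfl⟩, rfl⟩
    rw [← map_mul, ← map_mul, (commute_factors a b).eq]
  · rw [← Subgroup.map_inf _ _ f hinj, inf_range h2, MonoidHom.map_zpowers]
    rfl
  · rw [← Subgroup.map_sup, sup_range, hC]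
    exact Subgroup.map_mono hle
  · rw [← Subgroup.map_sup, sup_range, hC, Subgroup.relIndex_map_map_of_injective _ _ hinj]
    have h := Subgroup.index_mul_card ((slHom F).range.subgroupOf (pairHom F).range)
    rw [Nat.card_congr (Subgroup.subgroupOfEquivOfLe hle).toEquiv, natCard_range_pairHom,
      ← natCard_range_slHom h2, mul_comm _ 2] at h
    exact Nat.eq_of_mul_eq_mul_right Nat.card_pos h

end Cfsg.Agent.Lib.G2Inv
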