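import Cfsg.Agent.Lib.G2Inv.Sparse
import Cfsg.Prelude.Def_ChevG2
import Cfsg.Prelude.Def_G2

/-!
Root elements of type G2 as automorphisms of Zorn's algebra: the integer data.
-/

set_option autoImplicit false

namespace Cfsg.Agent.Lib.G2Inv

open Cfsg.Lie

/-- The derivations of the twelve roots. -/
def rootList : List SM :=
  [[(3, 1, -1), (4, 6, 1)],
    [(3, 2, 1), (5, 6, -1)],
    [(0, 6, -1), (3, 0, 1), (3, 7, -1), (4, 2, -1), (5, 1, 1), (7, 6, 1)],
    [(0, 1, -1), (2, 6, -1), (3, 5, 1), (4, 0, 1), (4, 7, -1), (7, 1, 1)],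
    [(0, 2, 1), (1, 6, -1), (3, 4, 1), (5, 0, -1), (5, 7, 1), (7, 2, -1)],
    [(2, 1, -1), (4, 5, 1)],
    [(1, 2, -1), (5, 4, 1)],
    [(0, 5, -1), (2, 0, 1), (2, 7, -1), (4, 3, 1), (6, 1, -1), (7, 5, 1)],
    [(0, 4, 1), (1, 0, -1), (1, 7, 1), (5, 3, 1), (6, 2, -1), (7, 4, -1)],
    [(0, 3, 1), (1, 5, 1), (2, 4, -1), (6, 0, -1), (6, 7, 1), (7, 3, -1)],
    [(2, 3, 1), (6, 5, -1)],
    [(1, 3, -1), (6, 4, 1)]]

/-- Their divided squares. -/
def sqList : List SM :=
  [[],
    [],
    [(3, 6, -1)],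
    [(4, 1, -1)],
    [(5, 2, -1)],
    [],
    [],
    [(2, 5, -1)],
    [(1, 4, -1)],
    [(6, 3, -1)],
    [],
    []]

/-- Left multiplication by the coordinate vectors. -/
def leftList : List SM :=
  [[(0, 0, 1), (1, 1, 1), (2, 2, 1), (3, 3, 1)],
    [(0, 4, 1), (1, 7, 1), (5, 3, -1), (6, 2, 1)],
    [(0, 5, 1), (2, 7, 1), (4, 3, 1), (6, 1, -1)],
    [(0, 6, 1), (3, 7, 1), (4, 2, -1), (5, 1, 1)],
    [(2, 6, 1), (3, 5, -1), (4, 0, 1), (7, 1, 1)],
    [(1, 6, -1), (3, 4, 1), (5, 0, 1), (7, 2, 1)],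
    [(1, 5, 1), (2, 4, -1), (6, 0, 1), (7, 3, 1)],
    [(4, 4, 1), (5, 5, 1), (6, 6, 1), (7, 7, 1)]]

/-- The derivations of the two simple coroots. -/
def cartList : List SM :=
  [[(1, 1, -1), (2, 2, 2), (3, 3, -1), (4, 4, 1), (5, 5, -2), (6, 6, 1)],
    [(1, 1, 1), (2, 2, -1), (4, 4, -1), (5, 5, 1)]]

/-- Functionals dual to the fourteen derivations. -/
def dualList : List SM :=
  [[(1, 1, 1), (2, 2, 1)],
    [(1, 1, 2), (2, 2, 1)],
    [(3, 1, -1)],
    [(3, 2, 1)],
    [(0, 6, -1)],
    [(0, 1, -1)],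
    [(0, 2, 1)],
    [(2, 1, -1)],
    [(1, 2, -1)],
    [(0, 5, -1)],
    [(0, 4, 1)],
    [(0, 3, 1)],
    [(2, 3, 1)],
    [(1, 3, -1)]]

/-- The derivation of a root. -/
def rootS (r : ℕ) : SM := rootList.getD r []

/-- The coefficients of a root element. -/
def yS (r : ℕ) : ℕ → SM
  | 0 => idS
  | 1 => rootS r
  | _ => sqList.getD r []

/-- Left multiplication by a coordinate vector. -/
def leftS (a : Fin 8) : SM := leftList.getD a.val []

/-- The basis of derivations. -/
def basisS : chevG2.Idx → SM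
  | Sum.inl i => cartList.getD i.val []
  | Sum.inr r => rootS r.val

/-- The coordinates. -/
def idxList : List chevG2.Idx :=
  (List.finRange chevG2.rank).map Sum.inl ++ (List.finRange chevG2.nroots).map Sum.inr

/-- The functional of a coordinate. -/
def dualS : chevG2.Idx → SM
  | Sum.inl i => dualList.getD i.val []
  | Sum.inr r => dualList.getD (r.val + 2) []

/-- The value of a functional on a sparse matrix. -/
def pairS (d l : SM) : ℤ := (d.map fun e => e.2.2 * coef l e.1 e.2.1).sum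

/-- The coefficient of `t ^ k` in the matrix of `x_r(t)`. -/
def xCoef (k : ℕ) (r : Fin chevG2.nroots) (row col : chevG2.Idx) : ℤ :=
  match col with
  | Sum.inl i =>
    (match row with
     | Sum.inl i' => if k = 0 ∧ i' = i then 1 else 0
     | Sum.inr u => if k = 1 ∧ u = r then -((chevG2.cartanSR.getD i.val #[]).getD r.val 0) else 0)
  | Sum.inr s =>
    if s = r then (match row with | Sum.inr u => if k = 0 ∧ u = r then 1 else 0 | Sum.inl _ => 0)
    else if s.val = chevG2.negIdx.getD r.val 0 then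
      (match row with
       | Sum.inl i => if k = 1 then (chevG2.coroot.getD r.val #[]).getD i.val 0 else 0
       | Sum.inr u => if u = s then (if k = 0 then 1 else 0) else if k = 2 ∧ u = r then -1 else 0)
    else
      (match row with
       | Sum.inl _ => 0
       | Sum.inr u => (if k = 0 ∧ u = s then 1 else 0) +
           (((chevG2.chainCoeff r.val s.val u.val).filter fun e => decide (e.1 = k)).map Prod.snd).sum)

theorem chain_deg : ∀ r s u : Fin chevG2.nroots,
    (chevG2.chainCoeff r.val s.val u.val).all (fun e => decide (e.1 < 4)) = true := by decide +kernel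

theorem dual_basis : ∀ i j : chevG2.Idx,
    pairS (dualS i) (basisS j) = if i = j then 1 else 0 := by decide +kernel

theorem root_inverse : ∀ r : Fin chevG2.nroots,
    (sameS (mulS (rootS r) (rootS r)) (smulS 2 (yS r 2)) && sameS (mulS (rootS r) (yS r 2)) [] &&
      sameS (mulS (yS r 2) (rootS r)) [] && sameS (mulS (yS r 2) (yS r 2)) []) = true := by decide +kernel

theorem aut_table : ∀ r : Fin chevG2.nroots, ∀ a : Fin 8,
    interOK (yS r) (leftS a)
      (fun k => combS (List.finRange 8) (fun c => if k < 3 then coef (yS r k) c a else 0) leftS) = true := by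
  decide +kernel

theorem conj_table : ∀ r : Fin chevG2.nroots, ∀ j : chevG2.Idx,
    interOK (yS r) (basisS j) (fun k => combS idxList (fun i => xCoef k r i j) basisS) = true := by
  decide +kernel

end Cfsg.Agent.Lib.G2Inv
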