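import Cfsg.Agent.Lib.G2Inv.Iso
import Cfsg.Agent.Lib.ZornG2.Pairs

/-!
The norm of Zorn's algebra, and idempotents fixed by an involutory automorphism.
-/

set_option autoImplicit false

namespace Cfsg.Agent.Lib.G2Inv

open Cfsg.Lie Matrix Cfsg.Agent.Lib.ZornG2

variable {F : Type*} [Field F]

/-- The norm. -/
def nZ (x : Fin 8 → F) : F := x 0 * x 7 - dot3 (zA F x) (zB F x)

/-- The trace. -/
def trZ (x : Fin 8 → F) : F := x 0 + x 7

/-- The polar form of the norm. -/
def polZ (x y : Fin 8 → F) : F := nZ (x + y) - nZ x - nZ y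

/-- The conjugate. -/
def conjZ (x : Fin 8 → F) : Fin 8 → F := ![x 7, -x 1, -x 2, -x 3, -x 4, -x 5, -x 6, x 0]

theorem polZ_eq (x y : Fin 8 → F) :
    polZ x y = x 0 * y 7 + x 7 * y 0 - dot3 (zA F x) (zB F y) - dot3 (zA F y) (zB F x) := by
  simp [polZ, nZ, dot3, zA, zB]; ring

theorem polZ_comm (x y : Fin 8 → F) : polZ x y = polZ y x := by
  rw [polZ_eq, polZ_eq]; ring

theorem polZ_add_left (x y z : Fin 8 → F) : polZ (x + y) z = polZ x z + polZ y z := by
  simp [polZ_eq, dot3, zA, zB]; ring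

theorem polZ_smul_left (c : F) (x y : Fin 8 → F) : polZ (c • x) y = c * polZ x y := by
  simp [polZ_eq, dot3, zA, zB]; ring

theorem polZ_add_right (x y z : Fin 8 → F) : polZ x (y + z) = polZ x y + polZ x z := by
  rw [polZ_comm, polZ_add_left, polZ_comm y, polZ_comm z]

theorem polZ_smul_right (c : F) (x y : Fin 8 → F) : polZ x (c • y) = c * polZ x y := by
  rw [polZ_comm, polZ_smul_left, polZ_comm]

theorem polZ_self (x : Fin 8 → F) : polZ x x = 2 * nZ x := by
  simp [polZ_eq, nZ]; ring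

theorem polZ_zOne (x : Fin 8 → F) : polZ x (zOne F) = trZ x := by
  simp [polZ_eq, trZ, zOne, mkZ, dot3, zA, zB]

theorem nZ_zOne : nZ (zOne F) = 1 := by
  simp [nZ, zOne, mkZ, dot3, zA, zB]

theorem polZ_nondeg {x : Fin 8 → F} (h : ∀ y, polZ x y = 0) : x = 0 := by
  have hh := fun i : Fin 8 => h (Pi.single i 1)
  simp only [polZ_eq] at hh
  funext i
  fin_cases i
  · simpa [dot3, zA, zB, Pi.single_apply] using hh 7
  · simpa [dot3, zA, zB, Pi.single_apply] using hh 4
  · simpa [dot3, zA, zB, Pi.single_apply] using hh 5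
  · simpa [dot3, zA, zB, Pi.single_apply] using hh 6
  · simpa [dot3, zA, zB, Pi.single_apply] using hh 1
  · simpa [dot3, zA, zB, Pi.single_apply] using hh 2
  · simpa [dot3, zA, zB, Pi.single_apply] using hh 3
  · simpa [dot3, zA, zB, Pi.single_apply] using hh 0

theorem zornMul_self (x : Fin 8 → F) :
    zornMul x x = trZ x • x - nZ x • zOne F := by
  funext i
  fin_cases i <;> simp [zornMul, trZ, nZ, zOne, mkZ, dot3, cross3, zA, zB] <;> ring

theorem conjZ_mul_cancel (a x : Fin 8 → F) : zornMul (conjZ a) (zornMul a x) = nZ a • x := by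
  funext i
  fin_cases i <;> simp [zornMul, conjZ, nZ, dot3, cross3, zA, zB] <;> ring

theorem zornMul_injective {a : Fin 8 → F} (ha : nZ a ≠ 0) : Function.Injective (zornMul a) := by
  intro x y h
  have e := congrArg (zornMul (conjZ a)) h
  rw [conjZ_mul_cancel, conjZ_mul_cancel] at e
  exact smul_right_injective (Fin 8 → F) ha e

/-- The linear map of an automorphism. -/
def actLin (g : ↥(Cfsg.Lie.G2 F)) : (Fin 8 → F) →ₗ[F] (Fin 8 → F) :=
  ((g : GL (Fin 8) F) : Matrix (Fin 8) (Fin 8) F).mulVecLin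

theorem actLin_apply (g : ↥(Cfsg.Lie.G2 F)) (x : Fin 8 → F) : actLin g x = act g x := rfl

theorem act_add (g : ↥(Cfsg.Lie.G2 F)) (x y : Fin 8 → F) : act g (x + y) = act g x + act g y :=
  map_add (actLin g) x y

theorem act_smul (g : ↥(Cfsg.Lie.G2 F)) (c : F) (x : Fin 8 → F) : act g (c • x) = c • act g x :=
  map_smul (actLin g) c x

theorem act_sub (g : ↥(Cfsg.Lie.G2 F)) (x y : Fin 8 → F) : act g (x - y) = act g x - act g y :=
  map_sub (actLin g) x y

theorem nZ_act (g : ↥(Cfsg.Lie.G2 F)) (x : Fin 8 → F) : nZ (act g x) = nZ x := by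
  have h := act_zornMul g x x
  rw [zornMul_self, act_sub, act_smul, act_smul, act_zOne, zornMul_self] at h
  by_cases ht : trZ x = trZ (act g x)
  · have h0 := congrFun h 0
    simp [← ht, zOne, mkZ] at h0
    exact h0.symm
  · have hd : trZ x - trZ (act g x) ≠ 0 := sub_ne_zero.2 ht
    set c := (trZ x - trZ (act g x))⁻¹ * (nZ x - nZ (act g x))
    have e : act g x = c • zOne F := by
      funext i
      have hi := congrFun h i
      simp only [Pi.sub_apply, Pi.smul_apply, smul_eq_mul] at hi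
      simp only [Pi.smul_apply, smul_eq_mul, c]
      field_simp
      linear_combination hi
    have hx : x = c • zOne F := act_injective g (by rw [e, act_smul, act_zOne])
    rw [e, hx]

theorem polZ_act (g : ↥(Cfsg.Lie.G2 F)) (x y : Fin 8 → F) : polZ (act g x) (act g y) = polZ x y := by
  simp only [polZ, ← act_add, nZ_act]

/-- The fixed space. -/
def fixSp (t : ↥(Cfsg.Lie.G2 F)) : Submodule F (Fin 8 → F) := LinearMap.ker (actLin t - 1)

/-- The negated space. -/
def negSp (t : ↥(Cfsg.Lie.G2 F)) : Submodule F (Fin 8 → F) := LinearMap.ker (actLin t + 1)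

theorem mem_fixSp {t : ↥(Cfsg.Lie.G2 F)} {x : Fin 8 → F} : x ∈ fixSp t ↔ act t x = x := by
  simp [fixSp, actLin_apply, sub_eq_zero]

theorem mem_negSp {t : ↥(Cfsg.Lie.G2 F)} {x : Fin 8 → F} : x ∈ negSp t ↔ act t x = -x := by
  simp [negSp, actLin_apply, add_eq_zero_iff_eq_neg]

theorem zOne_mem_fixSp (t : ↥(Cfsg.Lie.G2 F)) : zOne F ∈ fixSp t := mem_fixSp.2 (act_zOne t)

/-- The polar form is nondegenerate on the subspace. -/
def PolNondeg (S : Submodule F (Fin 8 → F)) : Prop := ∀ x ∈ S, (∀ y ∈ S, polZ x y = 0) → x = 0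

theorem exists_aniso (h2 : (2 : F) ≠ 0) {S : Submodule F (Fin 8 → F)} (hS : PolNondeg S)
    (hne : S ≠ ⊥) : ∃ x ∈ S, nZ x ≠ 0 := by
  by_contra h
  push Not at h
  obtain ⟨x, hx, hx0⟩ := Submodule.exists_mem_ne_zero_of_ne_bot hne
  exact hx0 (hS x hx fun y hy => by rw [polZ, h _ (S.add_mem hx hy), h x hx, h y hy]; ring)

/-- The part of a subspace orthogonal to a vector. -/
def perpIn (S : Submodule F (Fin 8 → F)) (a : Fin 8 → F) : Submodule F (Fin 8 → F) where
  carrier := {x | x ∈ S ∧ polZ x a = 0}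
  zero_mem' := ⟨S.zero_mem, by simp [polZ_eq, dot3]⟩
  add_mem' {x y} hx hy := ⟨S.add_mem hx.1 hy.1, by rw [polZ_add_left, hx.2, hy.2, add_zero]⟩
  smul_mem' c x hx := ⟨S.smul_mem c hx.1, by rw [polZ_smul_left, hx.2, mul_zero]⟩

theorem perpIn_spec (h2 : (2 : F) ≠ 0) {S : Submodule F (Fin 8 → F)} (hS : PolNondeg S)
    {a : Fin 8 → F} (haS : a ∈ S) (ha : nZ a ≠ 0) :
    PolNondeg (perpIn S a) ∧ Module.finrank F S ≤ Module.finrank F (perpIn S a) + 1 := by
  have haa : polZ a a ≠ 0 := by rw [polZ_self]; exact mul_ne_zero h2 ha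
  have hdec : ∀ y ∈ S, ∃ c : F, y - c • a ∈ perpIn S a := fun y hy => by
    refine ⟨polZ y a / polZ a a, S.sub_mem hy (S.smul_mem _ haS), ?_⟩
    rw [sub_eq_add_neg, ← neg_smul, polZ_add_left, polZ_smul_left]
    field_simp
    ring
  refine ⟨fun x hx h => hS x hx.1 fun y hy => ?_, ?_⟩
  · obtain ⟨c, hc⟩ := hdec y hy
    have := h _ hc
    rwa [sub_eq_add_neg, ← neg_smul, polZ_add_right, polZ_smul_right, hx.2, mul_zero, add_zero] at this
  · have hle : S ≤ perpIn S a ⊔ F ∙ a := fun y hy => by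
      obtain ⟨c, hc⟩ := hdec y hy
      exact Submodule.mem_sup.2 ⟨_, hc, _, Submodule.mem_span_singleton.2 ⟨c, rfl⟩, by abel⟩
    have h1 := Submodule.finrank_mono hle
    have h3 := Submodule.finrank_add_le_finrank_add_finrank (perpIn S a) (F ∙ a)
    rw [finrank_span_singleton (show a ≠ 0 from fun e => ha (by simp [e, nZ, dot3]))] at h3
    omega

variable {t : ↥(Cfsg.Lie.G2 F)}

theorem act_act (ht : t * t = 1) (x : Fin 8 → F) : act t (act t x) = x := by
  rw [← act_mul, ht, act_one]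

theorem polZ_fix_neg (h2 : (2 : F) ≠ 0) {x y : Fin 8 → F} (hx : x ∈ fixSp t) (hy : y ∈ negSp t) :
    polZ x y = 0 := by
  have h := polZ_act t x y
  rw [mem_fixSp.1 hx, mem_negSp.1 hy, show -y = (-1 : F) • y by simp, polZ_smul_right] at h
  exact (mul_eq_zero.1 (show (2 : F) * polZ x y = 0 by linear_combination -h)).resolve_left h2

theorem exists_decomp (h2 : (2 : F) ≠ 0) (ht : t * t = 1) (z : Fin 8 → F) :
    ∃ x ∈ fixSp t, ∃ y ∈ negSp t, x + y = z := by
  refine ⟨(2 : F)⁻¹ • (z + act t z), mem_fixSp.2 ?_, (2 : F)⁻¹ • (z - act t z), mem_negSp.2 ?_, ?_⟩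
  · rw [act_smul, act_add, act_act ht, add_comm]
  · rw [act_smul, act_sub, act_act ht, ← smul_neg, neg_sub]
  · rw [← smul_add, show z + act t z + (z - act t z) = (2 : F) • z by rw [two_smul]; abel,
      inv_smul_smul₀ h2]

theorem nondeg_fixSp (h2 : (2 : F) ≠ 0) (ht : t * t = 1) : PolNondeg (fixSp t) :=
  fun x hx h => polZ_nondeg fun z => by
    obtain ⟨u, hu, v, hv, rfl⟩ := exists_decomp h2 ht z
    rw [polZ_add_right, h u hu, polZ_fix_neg h2 hx hv, add_zero]

theorem nondeg_negSp (h2 : (2 : F) ≠ 0) (ht : t * t = 1) : PolNondeg (negSp t) :=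
  fun x hx h => polZ_nondeg fun z => by
    obtain ⟨u, hu, v, hv, rfl⟩ := exists_decomp h2 ht z
    rw [polZ_add_right, h v hv, polZ_comm, polZ_fix_neg h2 hu hx, add_zero]

theorem negSp_ne_bot (h2 : (2 : F) ≠ 0) (ht : t * t = 1) (h1 : t ≠ 1) : negSp t ≠ ⊥ := by
  intro hb
  apply h1
  refine Subtype.ext (Units.ext (Matrix.ext_of_mulVec_single fun j => ?_))
  show act t (Pi.single j 1) = (1 : Matrix (Fin 8) (Fin 8) F) *ᵥ Pi.single j 1
  obtain ⟨u, hu, v, hv, e⟩ := exists_decomp h2 ht (Pi.single j 1)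
  rw [hb, Submodule.mem_bot] at hv
  rw [Matrix.one_mulVec, ← e, hv, add_zero, mem_fixSp.1 hu]

/-- Left multiplication as a linear map. -/
def leftLin (a : Fin 8 → F) : (Fin 8 → F) →ₗ[F] (Fin 8 → F) := (leftF a).mulVecLin

theorem leftLin_apply (a x : Fin 8 → F) : leftLin a x = zornMul a x := leftF_mulVec a x

theorem finrank_fixSp (h2 : (2 : F) ≠ 0) (ht : t * t = 1) (h1 : t ≠ 1) :
    Module.finrank F (fixSp t) = 4 := by
  obtain ⟨a, haM, ha⟩ := exists_aniso h2 (nondeg_negSp h2 ht) (negSp_ne_bot h2 ht h1)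
  have hinj : Function.Injective (leftLin a) := fun x y h =>
    zornMul_injective ha (by rwa [leftLin_apply, leftLin_apply] at h)
  have i1 : (fixSp t).map (leftLin a) ≤ negSp t := by
    rintro _ ⟨x, hx, rfl⟩
    rw [mem_negSp, leftLin_apply, act_zornMul, mem_negSp.1 haM, mem_fixSp.1 hx]
    simp only [← leftLin_apply, leftLin]
    simp [leftF, Finset.sum_neg_distrib, Matrix.neg_mulVec]
  have i2 : (negSp t).map (leftLin a) ≤ fixSp t := by
    rintro _ ⟨x, hx, rfl⟩
    rw [mem_fixSp, leftLin_apply, act_zornMul, mem_negSp.1 haM, mem_negSp.1 hx]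
    funext i
    fin_cases i <;> simp [zornMul, dot3, cross3, zA, zB] <;> ring
  have c1 := Submodule.finrank_mono i1
  have c2 := Submodule.finrank_mono i2
  rw [← (Submodule.equivMapOfInjective _ hinj _).finrank_eq] at c1 c2
  have hsup : fixSp t ⊔ negSp t = ⊤ := eq_top_iff.2 fun z _ => by
    obtain ⟨u, hu, v, hv, rfl⟩ := exists_decomp h2 ht z
    exact Submodule.add_mem_sup hu hv
  have hinf : fixSp t ⊓ negSp t = ⊥ := eq_bot_iff.2 fun x hx => by
    rw [Submodule.mem_bot]
    have e : x = -x := (mem_fixSp.1 hx.1).symm.trans (mem_negSp.1 hx.2)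
    have : (2 : F) • x = 0 := by rw [two_smul]; nth_rewrite 2 [e]; abel
    exact (smul_eq_zero.1 this).resolve_left h2
  have h8 := Submodule.finrank_sup_add_finrank_inf_eq (fixSp t) (negSp t)
  rw [hsup, hinf, finrank_top, finrank_bot, Module.finrank_fin_fun] at h8
  omega

/-- An involutory automorphism fixes a nontrivial idempotent. -/
theorem exists_fixed_idem [Fintype F] (h2 : (2 : F) ≠ 0) (ht : t * t = 1) (h1 : t ≠ 1) :
    ∃ e ∈ idem F, act t e = e := by
  have hA := nondeg_fixSp h2 ht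
  have hd := finrank_fixSp h2 ht h1
  obtain ⟨hS1, hd1⟩ := perpIn_spec h2 hA (zOne_mem_fixSp t) (by rw [nZ_zOne]; exact one_ne_zero)
  obtain ⟨v, hv, hnv⟩ := exists_aniso h2 hS1 (fun e => by rw [e, finrank_bot] at hd1; omega)
  obtain ⟨hS2, hd2⟩ := perpIn_spec h2 hS1 hv hnv
  obtain ⟨w, hw, hnw⟩ := exists_aniso h2 hS2 (fun e => by rw [e, finrank_bot] at hd2; omega)
  have hcard : Fintype.card F % 2 = 1 := FiniteField.odd_card_of_char_ne_two fun hc => h2 (by
    haveI : CharP F 2 := (ringChar.of_eq hc)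
    exact_mod_cast CharP.cast_eq_zero F 2)
  obtain ⟨a, b, hab⟩ := FiniteField.exists_root_sum_quadratic
    (f := Polynomial.C (nZ v) * Polynomial.X ^ 2)
    (g := Polynomial.C (nZ w) * Polynomial.X ^ 2 + Polynomial.C 1)
    (Polynomial.degree_C_mul_X_pow 2 hnv)
    (by rw [Polynomial.degree_add_eq_left_of_degree_lt] <;>
          simp [Polynomial.degree_C_mul_X_pow 2 hnw]) hcard
  simp only [Polynomial.eval_add, Polynomial.eval_mul, Polynomial.eval_C, Polynomial.eval_pow,
    Polynomial.eval_X] at hab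
  set u := a • v + b • w with hu
  have hpu : polZ v w = 0 := by rw [polZ_comm]; exact hw.2
  have hnu : nZ u = -1 := by
    have e : nZ u = a * a * nZ v + b * b * nZ w + a * b * polZ v w := by
      simp [hu, polZ_eq, nZ, dot3, zA, zB]; ring
    rw [e, hpu]; linear_combination hab
  have htu : trZ u = 0 := by
    rw [← polZ_zOne, hu, polZ_add_left, polZ_smul_left, polZ_smul_left, hv.2, hw.1.2]
    ring
  have hfu : act t u = u := by
    rw [hu, act_add, act_smul, act_smul, mem_fixSp.1 hv.1, mem_fixSp.1 hw.1.1]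
  refine ⟨(2 : F)⁻¹ • (zOne F + u), ?_, by rw [act_smul, act_add, act_zOne, hfu]⟩
  refine (mem_idem_iff _).2 ⟨?_, ?_⟩
  · simp only [trZ] at htu
    simp only [Pi.smul_apply, Pi.add_apply]
    simp [zOne, mkZ]
    field_simp
    linear_combination htu
  · simp only [trZ] at htu
    have h7 : u 7 = -u 0 := by linear_combination htu
    have hn : dot3 (zA F u) (zB F u) = 1 - u 0 * u 0 := by
      have := hnu
      simp only [nZ, h7] at this
      linear_combination -this
    simp only [dot3, zA, zB, Pi.smul_apply, Pi.add_apply, Matrix.cons_val] at hn ⊢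
    simp [zOne, mkZ] at hn ⊢
    field_simp
    linear_combination hn

end Cfsg.Agent.Lib.G2Inv
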