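import Mathlib

/-!
Sparse integer matrices of size eight, read over a commutative ring, and a criterion for a
matrix quadratic in a parameter to intertwine a cubic family.
-/

set_option autoImplicit false

namespace Cfsg.Agent.Lib.G2Inv

open Matrix

/-- A sparse matrix: row, column, entry. -/
abbrev SM := List (Fin 8 × Fin 8 × ℤ)

variable (R : Type*) [CommRing R]

/-- The matrix of a sparse list. -/
def sm (l : SM) : Matrix (Fin 8) (Fin 8) R :=
  (l.map fun e => Matrix.single e.1 e.2.1 (e.2.2 : R)).sum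

/-- The entry of a sparse list. -/
def coef (l : SM) (i j : Fin 8) : ℤ :=
  (l.map fun e => if e.1 = i ∧ e.2.1 = j then e.2.2 else 0).sum

/-- A multiple. -/
def smulS (c : ℤ) (l : SM) : SM := if c = 0 then [] else l.map fun e => (e.1, e.2.1, c * e.2.2)

/-- A product. -/
def mulS (a b : SM) : SM :=
  a.flatMap fun x => (b.filter fun y => decide (y.1 = x.2.1)).map fun y => (x.1, y.2.1, x.2.2 * y.2.2)

/-- An integer combination. -/
def combS {ι : Type*} (is : List ι) (c : ι → ℤ) (B : ι → SM) : SM :=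
  is.flatMap fun i => smulS (c i) (B i)

/-- The identity. -/
def idS : SM := (List.finRange 8).map fun i => (i, i, 1)

/-- Whether two lists give the same matrix. -/
def sameS (a b : SM) : Bool :=
  (a ++ b).all fun e => decide (coef a e.1 e.2.1 = coef b e.1 e.2.1)

variable {R}

theorem sm_nil : sm R [] = 0 := rfl

theorem sm_cons (e : Fin 8 × Fin 8 × ℤ) (l : SM) :
    sm R (e :: l) = Matrix.single e.1 e.2.1 (e.2.2 : R) + sm R l := by simp [sm]

theorem sm_append (a b : SM) : sm R (a ++ b) = sm R a + sm R b := by simp [sm]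

theorem sm_apply : ∀ (l : SM) (i j : Fin 8), sm R l i j = (coef l i j : R)
  | [], i, j => by simp [sm_nil, coef]
  | e :: l, i, j => by
    rw [sm_cons, Matrix.add_apply, sm_apply l i j]
    by_cases h : e.1 = i ∧ e.2.1 = j
    · simp [coef, h]
    · simp [coef, h]

theorem sm_smulS (c : ℤ) : ∀ l : SM, sm R (smulS c l) = (c : R) • sm R l := by
  intro l
  unfold smulS
  split
  · next h => simp [h, sm_nil]
  induction l with
  | nil => simp [sm_nil]
  | cons e l ih =>
    rw [List.map_cons, sm_cons, sm_cons, ih, smul_add, Matrix.smul_single]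
    simp

theorem sm_mulS_aux (x : Fin 8 × Fin 8 × ℤ) : ∀ b : SM,
    sm R ((b.filter fun y => decide (y.1 = x.2.1)).map fun y => (x.1, y.2.1, x.2.2 * y.2.2)) =
      Matrix.single x.1 x.2.1 (x.2.2 : R) * sm R b
  | [] => by simp [sm_nil]
  | y :: b => by
    rw [List.filter_cons, sm_cons, mul_add, ← sm_mulS_aux x b]
    by_cases h : y.1 = x.2.1
    · simp only [h, decide_true, if_true, List.map_cons, sm_cons, Matrix.single_mul_single_same]
      push_cast
      rfl
    · simp only [h, decide_false, Bool.false_eq_true, if_false]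
      simp [Matrix.single_mul_single_of_ne, Ne.symm h]

theorem sm_mulS : ∀ a b : SM, sm R (mulS a b) = sm R a * sm R b
  | [], b => by simp [mulS, sm_nil]
  | x :: a, b => by
    have ih := sm_mulS a b
    simp only [mulS] at ih
    rw [mulS, List.flatMap_cons, sm_append, sm_cons, add_mul, ih, sm_mulS_aux]

theorem sm_combS {ι : Type*} (c : ι → ℤ) (B : ι → SM) : ∀ is : List ι,
    sm R (combS is c B) = (is.map fun i => (c i : R) • sm R (B i)).sum
  | [] => rfl
  | i :: is => by
    have ih := sm_combS c B is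
    simp only [combS] at ih
    rw [combS, List.flatMap_cons, sm_append, sm_smulS, List.map_cons, List.sum_cons, ih]

theorem coef_idS : ∀ i j : Fin 8, coef idS i j = if i = j then 1 else 0 := by decide +kernel

theorem sm_idS : sm R idS = 1 := by
  ext i j
  rw [sm_apply, coef_idS, Matrix.one_apply]
  split <;> simp

theorem sm_eq_of_same {a b : SM} (h : sameS a b = true) : sm R a = sm R b := by
  ext i j
  rw [sm_apply, sm_apply]
  by_cases hm : ∃ e ∈ a ++ b, e.1 = i ∧ e.2.1 = j
  · obtain ⟨e, he, rfl, rfl⟩ := hm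
    rw [of_decide_eq_true (List.all_eq_true.1 h e he)]
  · have h0 : ∀ l : SM, (∀ e ∈ l, ¬(e.1 = i ∧ e.2.1 = j)) → coef l i j = 0 := fun l hl =>
      List.sum_eq_zero fun x hx => by
        obtain ⟨e, he, rfl⟩ := List.mem_map.1 hx
        exact if_neg (hl e he)
    rw [h0 a fun e he hh => hm ⟨e, List.mem_append_left _ he, hh⟩,
      h0 b fun e he hh => hm ⟨e, List.mem_append_right _ he, hh⟩]

/-- The coefficient test for `(Y₀ + tY₁ + t²Y₂) B = (C₀ + tC₁ + t²C₂ + t³C₃) (Y₀ + tY₁ + t²Y₂)`. -/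
def interOK (Y : ℕ → SM) (B : SM) (C : ℕ → SM) : Bool :=
  sameS (mulS (Y 0) B) (mulS (C 0) (Y 0)) &&
  sameS (mulS (Y 1) B) (mulS (C 0) (Y 1) ++ mulS (C 1) (Y 0)) &&
  sameS (mulS (Y 2) B) (mulS (C 0) (Y 2) ++ mulS (C 1) (Y 1) ++ mulS (C 2) (Y 0)) &&
  sameS [] (mulS (C 1) (Y 2) ++ mulS (C 2) (Y 1) ++ mulS (C 3) (Y 0)) &&
  sameS [] (mulS (C 2) (Y 2) ++ mulS (C 3) (Y 1)) &&
  sameS [] (mulS (C 3) (Y 2))

theorem inter_of_ok {Y : ℕ → SM} {B : SM} {C : ℕ → SM} (h : interOK Y B C = true) (t : R) :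
    (sm R (Y 0) + t • sm R (Y 1) + t ^ 2 • sm R (Y 2)) * sm R B =
      (sm R (C 0) + t • sm R (C 1) + t ^ 2 • sm R (C 2) + t ^ 3 • sm R (C 3)) *
        (sm R (Y 0) + t • sm R (Y 1) + t ^ 2 • sm R (Y 2)) := by
  simp only [interOK, Bool.and_eq_true] at h
  obtain ⟨⟨⟨⟨⟨h0, h1⟩, h2⟩, h3⟩, h4⟩, h5⟩ := h
  have e0 := sm_eq_of_same (R := R) h0
  have e1 := sm_eq_of_same (R := R) h1
  have e2 := sm_eq_of_same (R := R) h2
  have e3 := sm_eq_of_same (R := R) h3
  have e4 := sm_eq_of_same (R := R) h4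
  have e5 := sm_eq_of_same (R := R) h5
  simp only [sm_append, sm_mulS, sm_nil] at e0 e1 e2 e3 e4 e5
  calc _ = sm R (Y 0) * sm R B + t • (sm R (Y 1) * sm R B) + t ^ 2 • (sm R (Y 2) * sm R B) +
        t ^ 3 • (sm R (C 1) * sm R (Y 2) + sm R (C 2) * sm R (Y 1) + sm R (C 3) * sm R (Y 0)) +
        t ^ 4 • (sm R (C 2) * sm R (Y 2) + sm R (C 3) * sm R (Y 1)) +
        t ^ 5 • (sm R (C 3) * sm R (Y 2)) := by
        rw [← e3, ← e4, ← e5]
        simp only [add_mul, Matrix.smul_mul, smul_zero, add_zero]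
    _ = _ := by
        rw [e0, e1, e2]
        simp only [add_mul, mul_add, Matrix.smul_mul, Matrix.mul_smul, smul_smul]
        module

end Cfsg.Agent.Lib.G2Inv
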